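import Groth.Prelude.Def_GLin
import Mathlib.LinearAlgebra.Matrix.SchurComplement
import Mathlib.LinearAlgebra.Matrix.NonsingularInverse
import Mathlib.RingTheory.Valuation.ValuationSubring
import Mathlib.RingTheory.Ideal.MinimalPrime.Basic
import Mathlib.RingTheory.Localization.Away.Basic
import Mathlib.RingTheory.Localization.FractionRing
import Mathlib.RingTheory.IntegralClosure.IsIntegralClosure.Basic
import Mathlib.RingTheory.Spectrum.Prime.RingHom
import Mathlib.RingTheory.Valuation.LocalSubring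

/-! The valuative criterion for finiteness, and diagonalisation of matrices over valuation rings. -/

set_option autoImplicit false
set_option linter.style.haveILetI false

universe u v

namespace Groth.Agent.SmoothFormLib

/-- Valuative criterion for integral elements of an arbitrary algebra. -/
theorem isIntegralElem_of_valuation {R A : Type u} [CommRing R] [CommRing A] (φ : R →+* A) (a : A)
    (h : ∀ (K : Type u) [Field K] (ψ : A →+* K) (V : ValuationSubring K),
      (∀ r, ψ (φ r) ∈ V) → ψ a ∈ V) : φ.IsIntegralElem a := by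
  classical
  by_contra hni
  let Aa := Localization.Away a
  let c : A →+* Aa := algebraMap A Aa
  letI : Algebra R A := φ.toAlgebra
  let w : Aa := IsLocalization.Away.invSelf a
  have hw : c a * w = 1 := IsLocalization.Away.mul_invSelf a
  let S : Subalgebra R Aa := Algebra.adjoin R {w}
  have hmem : w ∈ S := Algebra.self_mem_adjoin_singleton R w
  have hnu : ¬ IsUnit (⟨w, hmem⟩ : S) := fun hu => by
    obtain ⟨⟨z, hz⟩, hzu⟩ := hu.exists_right_inv
    have hzw : w * z = 1 := congrArg Subtype.val hzu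
    have hza : z = c a := by rw [← mul_one z, ← hw]; linear_combination (c a) * hzw
    have hz' : z ∈ Algebra.adjoin R {w} := hz
    rw [Algebra.adjoin_singleton_eq_range_aeval] at hz'
    obtain ⟨p, hp⟩ := hz'
    change Polynomial.aeval w p = z at hp
    -- clear the denominators
    let N := p.natDegree
    let q : A := a ^ (N + 1) - ∑ i ∈ Finset.range (N + 1), algebraMap R A (p.coeff i) * a ^ (N - i)
    have hq : c q = 0 := by
      have hpe : Polynomial.aeval w p = ∑ i ∈ Finset.range (N + 1), algebraMap R Aa (p.coeff i) * w ^ i := by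
        rw [Polynomial.aeval_eq_sum_range]
        exact Finset.sum_congr rfl fun i _ => by rw [Algebra.smul_def]
      simp only [q, map_sub, map_pow, map_sum, map_mul]
      rw [sub_eq_zero]
      have key : ∀ i ∈ Finset.range (N + 1), c a ^ N * (algebraMap R Aa (p.coeff i) * w ^ i) =
          c (algebraMap R A (p.coeff i)) * c a ^ (N - i) := fun i hi => by
        rw [← IsScalarTower.algebraMap_apply R A Aa]
        have hiN : i ≤ N := Nat.lt_succ_iff.mp (Finset.mem_range.mp hi)
        rw [show c a ^ N = c a ^ (N - i) * c a ^ i by rw [← pow_add, Nat.sub_add_cancel hiN]]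
        rw [mul_left_comm, mul_assoc, ← mul_pow, hw, one_pow, mul_one]
      calc c a ^ (N + 1) = c a ^ N * z := by rw [pow_succ, hza]
        _ = _ := by
          rw [← hp, hpe, Finset.mul_sum]
          exact Finset.sum_congr rfl key
    obtain ⟨⟨_, M, rfl⟩, hM⟩ := (IsLocalization.map_eq_zero_iff (Submonoid.powers a) Aa q).mp hq
    apply hni
    let P : Polynomial R := Polynomial.X ^ (N + 1) - ∑ i ∈ Finset.range (N + 1), Polynomial.C (p.coeff i) * Polynomial.X ^ (N - i)
    refine ⟨Polynomial.X ^ M * P, (Polynomial.monic_X_pow M).mul ?_, ?_⟩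
    · refine Polynomial.monic_X_pow_sub ?_
      refine (Polynomial.degree_sum_le _ _).trans_lt ?_
      refine (Finset.sup_lt_iff (WithBot.bot_lt_coe (N + 1))).mpr fun i _ => ?_
      exact (Polynomial.degree_C_mul_X_pow_le _ _).trans_lt (WithBot.coe_lt_coe.mpr (Nat.lt_succ_of_le (Nat.sub_le _ _)))
    · show Polynomial.eval₂ φ a _ = 0
      rw [Polynomial.eval₂_mul, Polynomial.eval₂_X_pow]
      refine Eq.trans (congrArg _ ?_) hM
      simp [P, q, Polynomial.eval₂_finsetSum, RingHom.algebraMap_toAlgebra]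
  obtain ⟨m, hm, hwm⟩ := exists_max_ideal_of_mem_nonunits hnu
  obtain ⟨q, hq, hqm⟩ := Ideal.exists_minimalPrimes_le (I := (⊥ : Ideal S)) (J := m) bot_le
  obtain ⟨P, hP, hPq⟩ := Ideal.exists_comap_eq_of_mem_minimalPrimes_of_injective
    (f := S.val.toRingHom) Subtype.val_injective q hq
  haveI := hP
  let K := FractionRing (Aa ⧸ P)
  let π : Aa →+* K := (algebraMap (Aa ⧸ P) K).comp (Ideal.Quotient.mk P)
  let C : Subring K := (π.comp S.val.toRingHom).range
  let g : S →+* C := (π.comp S.val.toRingHom).rangeRestrict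
  have hgker : RingHom.ker g ≤ m := fun s (hs : g s = 0) => hqm (hPq.le (by
    show (s : Aa) ∈ P
    have h1 : π (s : Aa) = 0 := congrArg Subtype.val hs
    exact Ideal.Quotient.eq_zero_iff_mem.mp
      ((IsFractionRing.injective (Aa ⧸ P) K) (h1.trans (map_zero _).symm))))
  have hmne : Ideal.map g m ≠ ⊤ := by
    intro htop
    have := congrArg (Ideal.comap g) htop
    rw [Ideal.comap_map_of_surjective g (π.comp S.val.toRingHom).rangeRestrict_surjective, Ideal.comap_top,
      ← RingHom.ker_eq_comap_bot, sup_eq_left.mpr hgker] at this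
    exact hm.ne_top this
  obtain ⟨V, hV, hV'⟩ := Ideal.image_subset_nonunits_valuationSubring (A := C) (Ideal.map g m) hmne
  have h1 : π (c a) ∈ V := h K (π.comp c) V fun r => hV ⟨algebraMap R S r, by
    show π ((algebraMap R S r : S) : Aa) = π (c (φ r))
    rfl⟩
  have h2 : π w ∈ V.nonunits := hV' ⟨g ⟨w, hmem⟩, Ideal.mem_map_of_mem g hwm, rfl⟩
  have h3 : π (c a) * π w = 1 := by rw [← map_mul, hw, map_one]
  rcases (V.mem_nonunits_iff_or).1 h2 with h4 | h4
  · rw [h4, mul_zero] at h3; exact zero_ne_one h3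
  · exact h4 (by rwa [← eq_inv_of_mul_eq_one_left h3])

variable {K : Type u} [Field K]

/-- Matrices over a valuation ring diagonalise. -/
theorem exists_diagonalisation (V : ValuationSubring K) (ι : Type) [Fintype ι] [DecidableEq ι] (g : Matrix ι ι K) :
    ∃ (p q : Matrix ι ι V) (d : ι → K), IsUnit p ∧ IsUnit q ∧
      g = p.map V.subtype * Matrix.diagonal d * q.map V.subtype := by
  classical
  suffices h : ∀ (n : ℕ) (ι : Type) [Fintype ι] [DecidableEq ι], Fintype.card ι = n → ∀ g : Matrix ι ι K,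
      ∃ (p q : Matrix ι ι V) (d : ι → K), IsUnit p ∧ IsUnit q ∧
        g = p.map V.subtype * Matrix.diagonal d * q.map V.subtype from h _ ι rfl g
  intro n
  induction n with
  | zero =>
    intro ι _ _ hι g
    haveI : IsEmpty ι := Fintype.card_eq_zero_iff.mp hι
    exact ⟨1, 1, 0, isUnit_one, isUnit_one, Subsingleton.elim _ _⟩
  | succ n ih =>
    intro ι _ _ hι g
    by_cases hg : g = 0
    · exact ⟨1, 1, 0, isUnit_one, isUnit_one, by simp [hg]⟩
    haveI : Nonempty ι := Fintype.card_pos_iff.mp (by omega)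
    obtain ⟨⟨i₀, j₀⟩, -, hmax⟩ := Finset.exists_max_image (Finset.univ : Finset (ι × ι))
      (fun x => V.valuation (g x.1 x.2)) Finset.univ_nonempty
    have hne : g i₀ j₀ ≠ 0 := fun h0 => hg (by
      ext i j
      have := hmax (i, j) (Finset.mem_univ _)
      simp only [h0, map_zero] at this
      simpa using le_antisymm this zero_le')
    let ι' := {i : ι // i ≠ i₀}
    have hι' : Fintype.card ι' = n := by
      simp [ι', Fintype.card_subtype_compl, hι]
    let e : Unit ⊕ ι' ≃ ι := Equiv.ofBijective (Sum.elim (fun _ => i₀) Subtype.val) ⟨by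
        rintro (a | a) (b | b) hab
        · rfl
        · exact absurd hab.symm b.2
        · exact absurd hab a.2
        · exact congrArg Sum.inr (Subtype.ext hab), fun i => by
        by_cases hi : i = i₀
        · exact ⟨Sum.inl (), hi.symm⟩
        · exact ⟨Sum.inr ⟨i, hi⟩, rfl⟩⟩
    let σ : ι ≃ ι := Equiv.swap i₀ j₀
    let G : Matrix (Unit ⊕ ι') (Unit ⊕ ι') K := g.submatrix e (σ ∘ e)
    have hG00 : G (Sum.inl ()) (Sum.inl ()) = g i₀ j₀ := by
      show g i₀ (σ i₀) = _
      simp [σ]
    have hdiv : ∀ i j, G i j / g i₀ j₀ ∈ V := fun i j => by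
      rw [← ValuationSubring.valuation_le_one_iff, map_div₀]
      exact div_le_one_of_le₀ (hmax (e i, σ (e j)) (Finset.mem_univ _)) zero_le'
    letI : Invertible G.toBlocks₁₁ := G.toBlocks₁₁.invertibleOfIsUnitDet (by
      rw [Matrix.det_unique]; exact isUnit_iff_ne_zero.mpr (by
        show G (Sum.inl ()) (Sum.inl ()) ≠ 0
        rw [hG00]; exact hne))
    have hinv : ∀ x y : Unit, (⅟G.toBlocks₁₁ : Matrix Unit Unit K) x y = (g i₀ j₀)⁻¹ := by
      intro x y
      have h1 := congrFun (congrFun (mul_invOf_self G.toBlocks₁₁) x) x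
      rw [Matrix.mul_apply, Fintype.sum_unique, Matrix.one_apply_eq] at h1
      refine eq_inv_of_mul_eq_one_right ?_
      rw [← hG00]
      exact h1
    let cl : Matrix ι' Unit V := fun i _ => ⟨G (Sum.inr i) (Sum.inl ()) / g i₀ j₀, hdiv _ _⟩
    let rw' : Matrix Unit ι' V := fun _ j => ⟨G (Sum.inl ()) (Sum.inr j) / g i₀ j₀, hdiv _ _⟩
    obtain ⟨p, q, d, hp, hq, hS⟩ := ih ι' hι' (G.toBlocks₂₂ - G.toBlocks₂₁ * ⅟G.toBlocks₁₁ * G.toBlocks₁₂)
    let L : Matrix (Unit ⊕ ι') (Unit ⊕ ι') V := Matrix.fromBlocks 1 0 cl 1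
    let U : Matrix (Unit ⊕ ι') (Unit ⊕ ι') V := Matrix.fromBlocks 1 rw' 0 1
    let P : Matrix (Unit ⊕ ι') (Unit ⊕ ι') V := Matrix.fromBlocks 1 0 0 p
    let Q : Matrix (Unit ⊕ ι') (Unit ⊕ ι') V := Matrix.fromBlocks 1 0 0 q
    let D : Unit ⊕ ι' → K := Sum.elim (fun _ => g i₀ j₀) d
    have hL : L.map V.subtype = Matrix.fromBlocks 1 0 (G.toBlocks₂₁ * ⅟G.toBlocks₁₁) 1 := by
      have hcl : cl.map V.subtype = G.toBlocks₂₁ * ⅟G.toBlocks₁₁ := by
        ext a b
        show (cl a b : K) = _
        rw [Matrix.mul_apply, Fintype.sum_unique, hinv, ← div_eq_mul_inv]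
        rfl
      rw [Matrix.fromBlocks_map, hcl, Matrix.map_zero _ (map_zero _), Matrix.map_one _ (map_zero _) (map_one _),
        Matrix.map_one _ (map_zero _) (map_one _)]
    have hU : U.map V.subtype = Matrix.fromBlocks 1 (⅟G.toBlocks₁₁ * G.toBlocks₁₂) 0 1 := by
      have hrw : rw'.map V.subtype = ⅟G.toBlocks₁₁ * G.toBlocks₁₂ := by
        ext a b
        show (rw' a b : K) = _
        rw [Matrix.mul_apply, Fintype.sum_unique, hinv, mul_comm, ← div_eq_mul_inv]
        rfl
      rw [Matrix.fromBlocks_map, hrw, Matrix.map_zero _ (map_zero _), Matrix.map_one _ (map_zero _) (map_one _),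
        Matrix.map_one _ (map_zero _) (map_one _)]
    have hmid : Matrix.fromBlocks G.toBlocks₁₁ 0 0 (G.toBlocks₂₂ - G.toBlocks₂₁ * ⅟G.toBlocks₁₁ * G.toBlocks₁₂) =
        P.map V.subtype * Matrix.diagonal D * Q.map V.subtype := by
      have hD : Matrix.diagonal D = Matrix.fromBlocks G.toBlocks₁₁ 0 0 (Matrix.diagonal d) := by
        rw [Matrix.ext_iff_blocks]
        refine ⟨?_, ?_, ?_, ?_⟩ <;> ext a b <;>
          simp [D, Matrix.toBlocks₁₁, Matrix.toBlocks₁₂, Matrix.toBlocks₂₁, Matrix.toBlocks₂₂, Matrix.diagonal_apply, hG00]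
      rw [hD, hS, Matrix.fromBlocks_map, Matrix.fromBlocks_map, Matrix.map_zero _ (map_zero _),
        Matrix.map_zero _ (map_zero _), Matrix.map_one _ (map_zero _) (map_one _), Matrix.fromBlocks_multiply,
        Matrix.fromBlocks_multiply]
      simp
    have hG : G = (L * P).map V.subtype * Matrix.diagonal D * (Q * U).map V.subtype := by
      conv_lhs => rw [← Matrix.fromBlocks_toBlocks G, Matrix.fromBlocks_eq_of_invertible₁₁, hmid, ← hL, ← hU]
      rw [Matrix.map_mul, Matrix.map_mul]
      simp only [Matrix.mul_assoc]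
    refine ⟨(L * P).submatrix e.symm e.symm, (Q * U).submatrix e.symm (e.symm ∘ σ.symm), D ∘ e.symm, ?_, ?_, ?_⟩
    · rw [Matrix.isUnit_submatrix_equiv]
      refine IsUnit.mul ((Matrix.isUnit_iff_isUnit_det _).mpr ?_) ((Matrix.isUnit_iff_isUnit_det _).mpr ?_)
      · rw [Matrix.det_fromBlocks_zero₁₂, Matrix.det_one, Matrix.det_one, one_mul]; exact isUnit_one
      · rw [Matrix.det_fromBlocks_zero₁₂, Matrix.det_one, one_mul]; exact (Matrix.isUnit_iff_isUnit_det _).mp hp
    · rw [show (e.symm ∘ σ.symm) = ⇑(σ.symm.trans e.symm) from rfl, Matrix.isUnit_submatrix_equiv]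
      refine IsUnit.mul ((Matrix.isUnit_iff_isUnit_det _).mpr ?_) ((Matrix.isUnit_iff_isUnit_det _).mpr ?_)
      · rw [Matrix.det_fromBlocks_zero₁₂, Matrix.det_one, one_mul]; exact (Matrix.isUnit_iff_isUnit_det _).mp hq
      · rw [Matrix.det_fromBlocks_zero₂₁, Matrix.det_one, Matrix.det_one, one_mul]; exact isUnit_one
    · have hg' : g = G.submatrix e.symm (e.symm ∘ σ.symm) := by
        ext i j
        simp [G]
      rw [hg', hG, ← Matrix.submatrix_map, ← Matrix.submatrix_map, ← Matrix.submatrix_diagonal_equiv,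
        Matrix.submatrix_mul_equiv, Matrix.submatrix_mul_equiv]

/-- An element of a valuation ring with a power in the ring is in the ring. -/
theorem mem_of_pow_mem (V : ValuationSubring K) {x : K} {N : ℕ} (hN : 0 < N) (h : x ^ N ∈ V) : x ∈ V := by
  rw [← ValuationSubring.valuation_le_one_iff] at h ⊢
  rw [map_pow] at h
  exact (pow_le_one_iff hN.ne').mp h

variable {k : Type u} [Field k] {A R : Type u} [CommRing A] [Bialgebra k A] [CommRing R] [Algebra k R]
  [HopfRep.Comod k A R] [GLin.IsCoactAlg k A R]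

/-- A point with finite orbit morphism is stable. -/
theorem isStablePt_of_finite (x : R →ₐ[k] k) (h : (GLin.orbitHom k A x).toRingHom.Finite) :
    GLin.IsStablePt k A x := by
  refine ⟨?_, ?_⟩
  · exact (PrimeSpectrum.isClosedMap_comap_of_isIntegral _ h.to_isIntegral).isClosed_range
  · letI : Algebra R A := (GLin.orbitHom k A x).toRingHom.toAlgebra
    haveI : Module.Finite R A := h
    obtain ⟨s, hs⟩ := (inferInstance : Module.Finite R A).fg_top
    classical
    refine ⟨s.image (Ideal.Quotient.mk (GLin.stabIdeal k A x)), eq_top_iff.mpr fun z _ => ?_⟩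
    obtain ⟨a, rfl⟩ := Ideal.Quotient.mk_surjective z
    obtain ⟨c, hc⟩ := Submodule.mem_span_finset.mp (hs.ge (Submodule.mem_top (x := a)))
    rw [← hc.2, map_sum]
    refine Submodule.sum_mem _ fun i hi => ?_
    have hr : Ideal.Quotient.mk (GLin.stabIdeal k A x) (c i • i) = x (c i) • Ideal.Quotient.mk (GLin.stabIdeal k A x) i := by
      have h1 : GLin.orbitHom k A x (c i - algebraMap k R (x (c i))) ∈ GLin.stabIdeal k A x :=
        Ideal.mem_map_of_mem _ (by rw [RingHom.mem_ker, map_sub, AlgHom.commutes, Algebra.algebraMap_self_apply, sub_self])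
      rw [map_sub, AlgHom.commutes, ← Ideal.Quotient.eq_zero_iff_mem, map_sub, sub_eq_zero] at h1
      rw [Algebra.smul_def, map_mul, Algebra.smul_def, show algebraMap R A (c i) = GLin.orbitHom k A x (c i) from rfl, h1]
      rfl
    rw [hr]
    exact Submodule.smul_mem _ _ (Submodule.subset_span (Finset.mem_coe.mpr (Finset.mem_image_of_mem _ hi)))

end Groth.Agent.SmoothFormLib
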