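import Groth.Agent.SmoothFormLib.Forms

/-! The orbit of a form in coefficient coordinates, and integrality of the orbit morphism. -/

set_option autoImplicit false
set_option linter.style.haveILetI false

universe u v

open TensorProduct MvPolynomial CoordGrp

namespace Groth.Agent.SmoothFormLib

theorem sumElim_mono_coeff {R : Type u} [CommRing R] {σ : Type} [Fintype σ] (g : Matrix σ σ R) (d : ℕ)
    (l m : σ →₀ ℕ) (hl : l.degree = d) :
    coeff (Finsupp.sumElim l m) ((∑ j, X (Sum.inl j) * rename Sum.inr (∑ i, C (g j i) * X i) :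
      MvPolynomial (σ ⊕ σ) R) ^ d) = (l.multinomial : R) * coeff m (linSub g (monomial l 1)) := by
  classical
  rw [Finset.sum_pow_eq_sum_piAntidiag, coeff_sum]
  have hterm : ∀ k : σ →₀ ℕ, ∏ j, (X (Sum.inl j) * rename Sum.inr (∑ i, C (g j i) * X i) : MvPolynomial (σ ⊕ σ) R) ^ k j =
      monomial (Finsupp.mapDomain Sum.inl k) 1 * rename Sum.inr (linSub g (monomial k 1)) := fun k => by
    rw [linSub_monomial, C_1, one_mul, map_prod, ← rename_monomial, monomial_eq, C_1, one_mul,
      Finsupp.prod_fintype _ _ (fun i => pow_zero _), map_prod, ← Finset.prod_mul_distrib]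
    exact Finset.prod_congr rfl fun i _ => by rw [map_pow, map_pow, rename_X, mul_pow]
  have hkey : ∀ k : σ →₀ ℕ, k.degree = d →
      coeff (Finsupp.sumElim l m) (monomial (Finsupp.mapDomain Sum.inl k) 1 * rename Sum.inr (linSub g (monomial k 1)) :
        MvPolynomial (σ ⊕ σ) R) = if k = l then coeff m (linSub g (monomial l 1)) else 0 := fun k hk => by
    rw [coeff_monomial_mul', one_mul]
    by_cases hkl : k = l
    · subst hkl
      rw [if_pos rfl, Finsupp.sumElim_eq_add, if_pos le_self_add, add_tsub_cancel_left,
        coeff_rename_mapDomain _ Sum.inr_injective]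
    · rw [if_neg hkl, if_neg]
      intro hle
      apply hkl
      have hle' : k ≤ l := fun i => by
        have := hle (Sum.inl i)
        rwa [Finsupp.mapDomain_apply Sum.inl_injective, Finsupp.sumElim_inl] at this
      obtain ⟨c, rfl⟩ := le_iff_exists_add.mp hle'
      rw [map_add, hk] at hl
      have : c = 0 := (Finsupp.degree_eq_zero_iff c).mp (by omega)
      rw [this, add_zero]
  rw [Finset.sum_eq_single (l : σ → ℕ)]
  · rw [hterm l, ← MvPolynomial.C_eq_coe_nat, coeff_C_mul, hkey l hl, if_pos rfl,
      Finsupp.multinomial_of_support_subset (Finset.subset_univ _)]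
  · intro k hk hkl
    obtain ⟨hsum, -⟩ := Finset.mem_piAntidiag.mp hk
    let k' : σ →₀ ℕ := Finsupp.equivFunOnFinite.symm k
    have hk' : k'.degree = d := by rw [Finsupp.degree_eq_sum]; exact hsum
    rw [show (∏ j, (X (Sum.inl j) * rename Sum.inr (∑ i, C (g j i) * X i) : MvPolynomial (σ ⊕ σ) R) ^ k j) = _ from hterm k',
      ← MvPolynomial.C_eq_coe_nat, coeff_C_mul, hkey k' hk', if_neg (fun e => hkl (by rw [← e]; rfl)), mul_zero]
  · intro h
    exact absurd (Finset.mem_piAntidiag.mpr ⟨by rw [← hl, Finsupp.degree_eq_sum], fun _ _ => Finset.mem_univ _⟩) h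

theorem multinomial_swap {R : Type u} [CommRing R] {σ : Type} [Fintype σ] (g : Matrix σ σ R) (d : ℕ)
    (l m : σ →₀ ℕ) (hl : l.degree = d) (hm : m.degree = d) :
    (l.multinomial : R) * coeff m (linSub g (monomial l 1)) =
      (m.multinomial : R) * coeff l (linSub g.transpose (monomial m 1)) := by
  rw [← sumElim_mono_coeff g d l m hl, ← sumElim_mono_coeff g.transpose d m l hm,
    ← Finsupp.mapDomain_swap_sumElim m l, ← coeff_rename_mapDomain _ Sum.swap_leftInverse.injective
      ((∑ j, X (Sum.inl j) * rename Sum.inr (∑ i, C (g.transpose j i) * X i)) ^ d) (Finsupp.sumElim m l), map_pow]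
  congr 2
  simp only [map_sum, map_mul, rename_X, rename_C, Sum.swap_inl, rename_rename, Finset.mul_sum, Matrix.transpose_apply,
    Function.comp_apply, Sum.swap_inr]
  rw [Finset.sum_comm]
  exact Finset.sum_congr rfl fun i _ => Finset.sum_congr rfl fun j _ => by ring

variable {k : Type u} [Field k] {n d : ℕ}

/-- The matrix coefficients of the representation on forms at a point. -/
theorem ev_formCoeff {K : Type u} [CommRing K] [Algebra k K] (ev : Mat n k →ₐ[k] K)
    (l m : FormIdx n d) :
    ev (formCoeff k n d l m) = coeff l.1 (linSub (Matrix.of fun i j => ev (Mat.X j i)) (monomial m.1 (1 : K))) := by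
  classical
  let Φ : MvPolynomial (Fin n) k ⊗[k] Mat n k →ₐ[k] MvPolynomial (Fin n) K :=
    Algebra.TensorProduct.lift (MvPolynomial.mapAlgHom (Algebra.ofId k K))
      ((IsScalarTower.toAlgHom k K (MvPolynomial (Fin n) K)).comp ev) (fun _ _ => Commute.all _ _)
  have hΦ : ∀ w, coeff l.1 (Φ w) = ev (coeffT (k := k) l.1 w) := fun w => by
    induction w using TensorProduct.induction_on with
    | zero => simp
    | add x y hx hy => simp [hx, hy]
    | tmul p b =>
      simp only [Φ, Algebra.TensorProduct.lift_tmul, AlgHom.comp_apply, IsScalarTower.coe_toAlgHom', algebraMap_eq,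
        coeffT_tmul, map_smul]
      rw [mul_comm, coeff_C_mul, Algebra.smul_def, mul_comm]
      congr 1
  have hcomp : ∀ p : MvPolynomial (Fin n) k, Φ (stdCoactAlg n k p) =
      linSub (Matrix.of fun i j => ev (Mat.X j i)) (MvPolynomial.map (algebraMap k K) p) := fun p => by
    induction p using MvPolynomial.induction_on with
    | C c =>
      rw [show (C c : MvPolynomial (Fin n) k) = algebraMap k _ c from rfl, AlgHom.commutes, AlgHom.commutes]
      simp [linSub, MvPolynomial.algebraMap_apply, IsScalarTower.algebraMap_apply k K (MvPolynomial (Fin n) K)]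
    | add p q hp hq => simp [hp, hq]
    | mul_X p i hp =>
      rw [map_mul, map_mul, map_mul, map_mul, hp]
      congr 1
      simp only [stdCoactAlg_X, map_sum, map_X, linSub_X, Φ, Algebra.TensorProduct.lift_tmul, AlgHom.comp_apply,
        IsScalarTower.coe_toAlgHom', algebraMap_eq, Matrix.of_apply]
      exact Finset.sum_congr rfl fun j _ => by
        rw [show MvPolynomial.mapAlgHom (Algebra.ofId k K) (X j) = (X j : MvPolynomial (Fin n) K) from map_X _ j, mul_comm]
  rw [formCoeff, ← hΦ, hcomp, map_monomial, map_one]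

/-- The form moved by a point of the matrix monoid, in terms of the moved coefficient vector. -/
theorem coeff_linSub_formPoly {K : Type u} [CommRing K] [Algebra k K] (ev : Mat n k →ₐ[k] K) (a : FormIdx n d → k)
    (m : FormIdx n d) :
    coeff m.1 (linSub (Matrix.of fun i j => ev (Mat.X i j)) (MvPolynomial.map (algebraMap k K) (formPoly a))) =
      (m.1.multinomial : K) * ev (∑ l : FormIdx n d, a l • formCoeff k n d l m) := by
  classical
  rw [formPoly, map_sum, map_sum, coeff_sum, map_sum, Finset.mul_sum]
  refine Finset.sum_congr rfl fun l _ => ?_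
  rw [map_smul, ev_formCoeff, Algebra.smul_def, mul_left_comm,
    show (Matrix.of fun i j => ev (Mat.X j i)) = (Matrix.of fun i j => ev (Mat.X i j)).transpose from rfl,
    ← multinomial_swap _ d l.1 m.1 l.2 m.2, map_monomial, map_mul, map_natCast,
    show monomial l.1 ((l.1.multinomial : K) * algebraMap k K (a l)) =
      C ((l.1.multinomial : K) * algebraMap k K (a l)) * monomial l.1 1 by rw [C_mul_monomial, mul_one],
    map_mul, linSub, aeval_C, algebraMap_eq, coeff_C_mul]
  ring

theorem isHomogeneous_formPoly (a : FormIdx n d → k) : (formPoly a).IsHomogeneous d :=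
  IsHomogeneous.sum _ _ _ fun m _ => isHomogeneous_monomial _ m.2

end Groth.Agent.SmoothFormLib
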