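import Groth.Agent.SmoothFormLib.Valuative
import Groth.Prelude.Def_GLin6
import Mathlib.Data.Fin.Tuple.Sort
import Mathlib.RingTheory.Ideal.KrullsHeightTheorem
import Mathlib.RingTheory.Nullstellensatz
import Mathlib.FieldTheory.IsAlgClosed.AlgebraicClosure
import Mathlib.Data.Nat.Choose.Multinomial
import Mathlib.Algebra.MvPolynomial.PDeriv
import Mathlib.Algebra.Order.Ring.Abs

/-! Smooth forms: coefficients of `F ∘ g` integral and `det g = 1` force `g` integral. -/

set_option autoImplicit false

universe u v

open MvPolynomial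

namespace Groth.Agent.SmoothFormLib

section LinSub

variable {R : Type u} [CommRing R] {σ : Type} [Fintype σ]

/-- The linear substitution `X j ↦ ∑ i, g j i X i`. -/
noncomputable def linSub (g : Matrix σ σ R) : MvPolynomial σ R →ₐ[R] MvPolynomial σ R :=
  aeval fun j => ∑ i, C (g j i) * X i

@[simp] theorem linSub_X (g : Matrix σ σ R) (j : σ) : linSub g (X j) = ∑ i, C (g j i) * X i := by
  simp [linSub]

theorem linSub_mul (a b : Matrix σ σ R) (F : MvPolynomial σ R) : linSub (a * b) F = linSub b (linSub a F) := by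
  have h : linSub (a * b) = (linSub b).comp (linSub a) := algHom_ext fun j => by
    simp only [AlgHom.comp_apply, linSub_X, map_sum, map_mul, algHom_C, algebraMap_eq, Matrix.mul_apply,
      Finset.sum_mul, Finset.mul_sum]
    rw [Finset.sum_comm]
    exact Finset.sum_congr rfl fun i _ => Finset.sum_congr rfl fun l _ => by rw [mul_assoc]
  rw [h]; rfl

theorem linSub_one [DecidableEq σ] (F : MvPolynomial σ R) : linSub (1 : Matrix σ σ R) F = F := by
  have h : linSub (1 : Matrix σ σ R) = AlgHom.id R _ := algHom_ext fun j => by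
    simp [Matrix.one_apply, apply_ite C, ite_mul]
  rw [h]; rfl

theorem map_linSub {S : Type v} [CommRing S] (f : R →+* S) (g : Matrix σ σ R) (F : MvPolynomial σ R) :
    MvPolynomial.map f (linSub g F) = linSub (g.map f) (MvPolynomial.map f F) := by
  induction F using MvPolynomial.induction_on with
  | C a => simp [linSub]
  | add p q hp hq => simp [hp, hq]
  | mul_X p i hp => simp [hp]

theorem isHomogeneous_linSub (g : Matrix σ σ R) {F : MvPolynomial σ R} {d : ℕ} (h : F.IsHomogeneous d) :
    (linSub g F).IsHomogeneous d := by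
  have := h.aeval (R := R) (n := 1) (fun j => ∑ i, C (g j i) * X i)
    (fun j => IsHomogeneous.sum _ _ _ fun i _ => (isHomogeneous_X _ i).C_mul _)
  rwa [one_mul] at this

theorem eval_linSub (g : Matrix σ σ R) (w : σ → R) (F : MvPolynomial σ R) :
    eval w (linSub g F) = eval (g.mulVec w) F := by
  induction F using MvPolynomial.induction_on with
  | C a => simp [linSub]
  | add p q hp hq => simp [hp, hq]
  | mul_X p i hp => simp [hp, Matrix.mulVec, dotProduct]

theorem pderiv_linSub (g : Matrix σ σ R) (j : σ) (F : MvPolynomial σ R) :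
    pderiv j (linSub g F) = ∑ i, linSub g (pderiv i F) * C (g i j) := by
  classical
  induction F using MvPolynomial.induction_on with
  | C a => simp [linSub]
  | add p q hp hq => simp [hp, hq, add_mul, Finset.sum_add_distrib]
  | mul_X p l hp =>
    have h1 : pderiv j (linSub g (X l : MvPolynomial σ R)) = C (g l j) := by
      simp [pderiv_X, Pi.single_apply]
    rw [map_mul, pderiv_mul, hp, h1, Finset.sum_mul]
    simp only [pderiv_mul, map_add, map_mul, add_mul, Finset.sum_add_distrib, pderiv_X]
    congr 1
    · exact Finset.sum_congr rfl fun i _ => by ring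
    · simp [Pi.single_apply, apply_ite (linSub g), mul_ite, ite_mul]

theorem linSub_monomial (g : Matrix σ σ R) (l : σ →₀ ℕ) (c : R) :
    linSub g (monomial l c) = C c * ∏ j, (∑ i, C (g j i) * X i) ^ l j := by
  rw [linSub, aeval_monomial, algebraMap_eq, Finsupp.prod_fintype]
  exact fun i => pow_zero _

theorem coeff_linSub_diagonal [DecidableEq σ] (d : σ → R) (F : MvPolynomial σ R) (α : σ →₀ ℕ) :
    coeff α (linSub (Matrix.diagonal d) F) = coeff α F * ∏ i, d i ^ α i := by
  induction F using MvPolynomial.induction_on' with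
  | add p q hp hq => simp [hp, hq, add_mul]
  | monomial l c =>
    have h : linSub (Matrix.diagonal d) (monomial l c) = monomial l (c * ∏ i, d i ^ l i) := by
      rw [linSub_monomial, monomial_eq, map_mul, map_prod, Finsupp.prod_fintype _ _ (fun i => pow_zero _),
        mul_assoc, ← Finset.prod_mul_distrib]
      congr 1
      exact Finset.prod_congr rfl fun i _ => by
        simp [Matrix.diagonal_apply, apply_ite C, ite_mul, mul_pow, map_pow]
    rw [h, coeff_monomial, coeff_monomial]
    split_ifs with hl
    · rw [hl]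
    · simp

end LinSub

/-- Fewer polynomials without constant term than variables have a nontrivial common zero. -/
theorem exists_common_zero {K : Type u} [Field K] [IsAlgClosed K] {r : ℕ} (P : Finset (MvPolynomial (Fin r) K))
    (hP : P.card < r) (h0 : ∀ p ∈ P, constantCoeff p = 0) :
    ∃ w : Fin r → K, w ≠ 0 ∧ ∀ p ∈ P, eval w p = 0 := by
  classical
  by_contra hc
  push Not at hc
  let φ : ℕ → MvPolynomial (Fin r) K →ₐ[K] MvPolynomial (Fin r) K :=
    fun i => aeval fun j => if j.val < i then 0 else X j
  have hφp : ∀ i, (RingHom.ker (φ i)).IsPrime := fun i => RingHom.ker_isPrime _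
  have hcomp : ∀ i, (φ (i + 1)).comp (φ i) = φ (i + 1) := fun i => algHom_ext fun j => by
    simp only [AlgHom.comp_apply, φ, aeval_X]
    split_ifs <;> simp_all <;> omega
  have hstep : ∀ i, i < r → RingHom.ker (φ i) < RingHom.ker (φ (i + 1)) := fun i hi => by
    refine SetLike.lt_iff_le_and_exists.mpr ⟨fun p hp => ?_, X ⟨i, hi⟩, ?_, ?_⟩
    · rw [RingHom.mem_ker] at hp ⊢
      rw [← hcomp i, AlgHom.comp_apply, hp, map_zero]
    · simp [φ, RingHom.mem_ker]
    · simp [φ, RingHom.mem_ker, X_ne_zero]
  have hh : ∀ i, i ≤ r → (i : ℕ∞) ≤ (RingHom.ker (φ i)).height := by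
    intro i
    induction i with
    | zero => simp
    | succ i ih =>
      intro hi
      haveI := hφp i
      haveI := hφp (i + 1)
      calc ((i + 1 : ℕ) : ℕ∞) = (i : ℕ∞) + 1 := by push_cast; rfl
        _ ≤ (RingHom.ker (φ i)).height + 1 := by gcongr; exact ih (by omega)
        _ ≤ _ := Ideal.height_add_one_le_of_lt_of_isPrime (hstep i (by omega))
  have hr : ∀ p, φ r p = C (constantCoeff p) := fun p => by
    induction p using MvPolynomial.induction_on with
    | C a => simp [φ]
    | add p q hp hq => simp [hp, hq]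
    | mul_X p i hp => simp [φ]
  haveI := hφp r
  have hmin : RingHom.ker (φ r) ∈ (Ideal.span (P : Set (MvPolynomial (Fin r) K))).minimalPrimes := by
    refine ⟨⟨inferInstance, Ideal.span_le.mpr fun p hp => ?_⟩, fun q hq _ p hp => ?_⟩
    · rw [SetLike.mem_coe, RingHom.mem_ker, hr, h0 p hp, map_zero]
    · have hX : ∀ i, (X i : MvPolynomial (Fin r) K) ∈ q := fun i => by
        refine hq.1.radical_le_iff.mpr hq.2 ?_
        rw [← vanishingIdeal_zeroLocus_eq_radical (K := K)]
        intro w hw
        by_contra hne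
        have hw0 : w ≠ 0 := fun e => hne (by simp [e])
        obtain ⟨p', hp', hne'⟩ := hc w hw0
        exact hne' (hw p' (Ideal.subset_span hp'))
      have hgen : ∀ p : MvPolynomial (Fin r) K, p - C (constantCoeff p) ∈ q := fun p => by
        induction p using MvPolynomial.induction_on with
        | C a => simp
        | add a b ha hb =>
          have := q.add_mem ha hb
          rwa [sub_add_sub_comm, ← map_add C, ← map_add] at this
        | mul_X a i _ => simpa using q.mul_mem_left a (hX i)
      have := hgen p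
      rw [RingHom.mem_ker, hr, map_eq_zero_iff C (C_injective _ _)] at hp
      rwa [hp, map_zero, sub_zero] at this
  have := (hh r le_rfl).trans (Ideal.height_le_card_of_mem_minimalPrimes_span_finset hmin)
  exact absurd (Nat.cast_le.mp this) (not_le.mpr hP)

/-- For a form with nonsingular zero locus, every initial set of `s + 1` coordinates sees at least `s + 1`
partial derivatives. -/
theorem exists_exponent {K : Type u} [Field K] [IsAlgClosed K] {n m : ℕ} (hm : 2 ≤ m)
    (G : MvPolynomial (Fin (n + 1)) K) (hG : G.IsHomogeneous m)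
    (hs : ∀ w : Fin (n + 1) → K, (∀ i, eval w (pderiv i G) = 0) → w = 0) (s : Fin (n + 1)) :
    ∃ (β : Fin (n + 1) →₀ ℕ) (j : Fin (n + 1)), (∀ i, β i ≠ 0 → i ≤ s) ∧ j ≤ s.rev ∧
      coeff (β + Finsupp.single j 1) G ≠ 0 := by
  classical
  by_contra hc
  push Not at hc
  let ρ : MvPolynomial (Fin (n + 1)) K →ₐ[K] MvPolynomial (Fin (s.val + 1)) K :=
    aeval fun i => if h : i.val < s.val + 1 then X ⟨i.val, h⟩ else 0
  have hzero : ∀ j : Fin (n + 1), j ≤ s.rev → ρ (pderiv j G) = 0 := fun j hj => by
    rw [(pderiv j G).as_sum, map_sum]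
    refine Finset.sum_eq_zero fun β hβ => ?_
    by_cases hb : ∀ i, β i ≠ 0 → i ≤ s
    · exfalso
      exact mem_support_iff.mp hβ (by rw [coeff_pderiv, hc β j hb hj, zero_mul])
    · push Not at hb
      obtain ⟨i, hi, his⟩ := hb
      rw [aeval_monomial]
      refine mul_eq_zero_of_right _ (Finset.prod_eq_zero (i := i) (Finsupp.mem_support_iff.mpr hi) ?_)
      show (if h : i.val < s.val + 1 then X ⟨i.val, h⟩ else 0 : MvPolynomial (Fin (s.val + 1)) K) ^ β i = 0
      rw [dif_neg (by have : s.val < i.val := his; omega), zero_pow hi]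
  let P := (Finset.Ioi s.rev).image fun j => ρ (pderiv j G)
  have hcard : P.card < s.val + 1 := by
    refine lt_of_le_of_lt Finset.card_image_le ?_
    rw [Fin.card_Ioi, Fin.val_rev]
    omega
  have hρ : ∀ (w : Fin (s.val + 1) → K) (p : MvPolynomial (Fin (n + 1)) K),
      eval w (ρ p) = eval (fun i => if h : i.val < s.val + 1 then w ⟨i.val, h⟩ else 0) p := fun w p => by
    induction p using MvPolynomial.induction_on with
    | C a => simp [ρ]
    | add p q hp hq => simp [hp, hq]
    | mul_X p i hp =>
      rw [map_mul, map_mul, map_mul, hp]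
      congr 1
      simp only [ρ, aeval_X, eval_X]
      split_ifs <;> simp
  have hcc : ∀ p, constantCoeff (ρ p) = constantCoeff p := fun p => by
    induction p using MvPolynomial.induction_on with
    | C a => simp [ρ]
    | add p q hp hq => simp [hp, hq]
    | mul_X p i hp =>
      simp only [ρ, map_mul, aeval_X]
      split_ifs <;> simp
  obtain ⟨w, hw, hwP⟩ := exists_common_zero P hcard (fun p hp => by
    obtain ⟨j, _, rfl⟩ := Finset.mem_image.mp hp
    rw [hcc, constantCoeff_eq, coeff_pderiv, zero_add]
    rw [hG.coeff_eq_zero (by rw [Finsupp.degree_single]; omega), zero_mul])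
  apply hw
  have := hs _ fun j => by
    rw [← hρ w]
    by_cases hj : j ≤ s.rev
    · rw [hzero j hj, map_zero]
    · exact hwP _ (Finset.mem_image_of_mem _ (Finset.mem_Ioi.mpr (not_le.mp hj)))
  funext i
  have h1 := congrFun this ⟨i.val, by omega⟩
  simp only [dif_pos i.isLt, Fin.eta, Pi.zero_apply] at h1
  exact h1

/-- If `det g = 1` and the coefficients of a smooth form moved by `g` lie in a valuation ring, so do the entries. -/
theorem entries_mem {k : Type u} [Field k] [IsAlgClosed k] {K : Type u} [Field K] [Algebra k K]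
    (V : ValuationSubring K) (hV : ∀ c : k, algebraMap k K c ∈ V) {n m : ℕ} (hm : 3 ≤ m)
    (F : MvPolynomial (Fin (n + 1)) k) (hF : F.IsHomogeneous m)
    (hs : ∀ w : Fin (n + 1) → k, w ≠ 0 → ∃ i, eval w (pderiv i F) ≠ 0)
    (g : Matrix (Fin (n + 1)) (Fin (n + 1)) K) (hg : g.det = 1)
    (hc : ∀ α, coeff α (linSub g (MvPolynomial.map (algebraMap k K) F)) ∈ V) :
    ∀ i j, g i j ∈ V := by
  classical
  obtain ⟨p₀, q₀, d₀, hp₀, hq₀, hgd₀⟩ := exists_diagonalisation V (Fin (n + 1)) g
  let σ : Equiv.Perm (Fin (n + 1)) := Tuple.sort fun i => OrderDual.toDual (V.valuation (d₀ i))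
  obtain ⟨p, q, d, hp, hq, hgd, hanti⟩ : ∃ (p q : Matrix (Fin (n + 1)) (Fin (n + 1)) V) (d : Fin (n + 1) → K),
      IsUnit p.det ∧ IsUnit q.det ∧ g = p.map V.subtype * Matrix.diagonal d * q.map V.subtype ∧
      ∀ i j, i ≤ j → V.valuation (d j) ≤ V.valuation (d i) := by
    refine ⟨p₀.submatrix (Equiv.refl _) σ, q₀.submatrix σ (Equiv.refl _), d₀ ∘ σ, ?_, ?_, ?_, fun i j hij => ?_⟩
    · exact (Matrix.isUnit_iff_isUnit_det _).mp ((Matrix.isUnit_submatrix_equiv _ _).mpr hp₀)
    · exact (Matrix.isUnit_iff_isUnit_det _).mp ((Matrix.isUnit_submatrix_equiv _ _).mpr hq₀)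
    · rw [← Matrix.submatrix_map, ← Matrix.submatrix_map, ← Matrix.submatrix_diagonal_equiv, Matrix.submatrix_mul_equiv,
        Matrix.submatrix_mul_equiv]
      simpa using hgd₀
    · exact (Tuple.monotone_sort (fun i => OrderDual.toDual (V.valuation (d₀ i)))) hij
  have hvu : ∀ x : V, IsUnit x → V.valuation (x : K) = 1 := fun x hx => (V.valuation_eq_one_iff x).mp hx
  have hdet : ∀ M : Matrix (Fin (n + 1)) (Fin (n + 1)) V, (M.map V.subtype).det = (M.det : K) :=
    fun M => (RingHom.map_det V.subtype M).symm
  have hprod : ∏ i, V.valuation (d i) = 1 := by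
    have h := congrArg V.valuation hg
    rwa [hgd, Matrix.det_mul, Matrix.det_mul, Matrix.det_diagonal, hdet, hdet, map_mul, map_mul, map_prod,
      map_one, hvu _ hp, hvu _ hq, one_mul, mul_one] at h
  let ι₀ : k →+* V := (algebraMap k K).codRestrict V.toSubring hV
  have hFK : MvPolynomial.map (algebraMap k K) F = MvPolynomial.map V.subtype (MvPolynomial.map ι₀ F) := by
    rw [MvPolynomial.map_map]; rfl
  let G := linSub p (MvPolynomial.map ι₀ F)
  -- the coefficients of `F ∘ p ∘ D` lie in `V`
  have hD : ∀ α, ((coeff α G : V) : K) * ∏ i, d i ^ α i ∈ V := fun α => by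
    let H := linSub (Matrix.diagonal d) (MvPolynomial.map V.subtype G)
    have hH : linSub g (MvPolynomial.map (algebraMap k K) F) = linSub (q.map V.subtype) H := by
      rw [hgd, linSub_mul, linSub_mul, hFK, ← map_linSub]
    obtain ⟨H', hH'⟩ : linSub g (MvPolynomial.map (algebraMap k K) F) ∈ (MvPolynomial.map V.subtype :
        MvPolynomial (Fin (n + 1)) V →+* MvPolynomial (Fin (n + 1)) K).range := by
      refine mem_range_map_iff_coeffs_subset.mpr fun c hcm => ?_
      obtain ⟨α', _, rfl⟩ := mem_coeffs_iff.mp hcm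
      exact ⟨⟨_, hc α'⟩, rfl⟩
    have h2 : MvPolynomial.map V.subtype (linSub q⁻¹ H') = H := by
      rw [map_linSub, hH', hH, ← linSub_mul, ← Matrix.map_mul, Matrix.mul_nonsing_inv _ hq,
        Matrix.map_one _ (map_zero _) (map_one _), linSub_one]
    have h3 := congrArg (coeff α) h2
    rw [coeff_map, coeff_linSub_diagonal, coeff_map] at h3
    have h4 : V.subtype (coeff α (linSub q⁻¹ H')) ∈ V := (coeff α (linSub q⁻¹ H')).2
    rw [h3] at h4
    exact h4
  -- the reduction
  let κ := IsLocalRing.ResidueField V
  let Ω := AlgebraicClosure κ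
  let π : V →+* Ω := (algebraMap κ Ω).comp (IsLocalRing.residue V)
  let Gb := MvPolynomial.map π G
  have hGb : Gb = linSub (p.map π) (MvPolynomial.map (π.comp ι₀) F) := by
    simp only [Gb, G]; rw [map_linSub, MvPolynomial.map_map]
  have hhom : Gb.IsHomogeneous m := (isHomogeneous_linSub p (hF.map _)).map _
  have hsm : ∀ w : Fin (n + 1) → Ω, (∀ i, eval w (pderiv i Gb) = 0) → w = 0 := by
    intro w hw
    have hdu : IsUnit (p.map π).det := by
      rw [show (p.map π).det = π p.det from (RingHom.map_det π p).symm]; exact hp.map π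
    have hu : ∀ i, eval ((p.map π).mulVec w) (pderiv i (MvPolynomial.map (π.comp ι₀) F)) = 0 := by
      have hinj := Matrix.vecMul_injective_iff_isUnit.mpr ((Matrix.isUnit_iff_isUnit_det _).mpr hdu)
      let u : Fin (n + 1) → Ω := fun i => eval ((p.map π).mulVec w) (pderiv i (MvPolynomial.map (π.comp ι₀) F))
      have : Matrix.vecMul u (p.map π) = Matrix.vecMul 0 (p.map π) := by
        rw [Matrix.zero_vecMul]
        funext j
        have h1 := hw j
        rw [hGb, pderiv_linSub, map_sum] at h1
        simp only [map_mul, eval_C, eval_linSub] at h1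
        exact h1
      exact congrFun (hinj this)
    have hz : (p.map π).mulVec w = 0 := by
      funext l
      have hX : (X l : MvPolynomial (Fin (n + 1)) k) ∈ (Ideal.span (Set.range fun i => pderiv i F)).radical := by
        rw [← vanishingIdeal_zeroLocus_eq_radical (K := k)]
        intro v hv
        by_contra hne
        obtain ⟨i, hi⟩ := hs v (fun e => hne (by simp [e]))
        exact hi (hv _ (Ideal.subset_span ⟨i, rfl⟩))
      obtain ⟨e, he⟩ := hX
      let E : MvPolynomial (Fin (n + 1)) k →+* Ω :=
        (eval ((p.map π).mulVec w)).comp (MvPolynomial.map (π.comp ι₀))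
      have hle : Ideal.span (Set.range fun i => pderiv i F) ≤ RingHom.ker E := by
        rw [Ideal.span_le]
        rintro _ ⟨i, rfl⟩
        show eval _ (MvPolynomial.map _ (pderiv i F)) = 0
        rw [← pderiv_map]
        exact hu i
      have h1 : E (X l ^ e) = 0 := hle he
      simp only [E, RingHom.comp_apply, map_pow, MvPolynomial.map_X, eval_X] at h1
      exact eq_zero_of_pow_eq_zero h1
    exact Matrix.mulVec_injective_iff_isUnit.mpr ((Matrix.isUnit_iff_isUnit_det _).mpr hdu)
      (hz.trans (Matrix.mulVec_zero _).symm)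
  have he : ∀ s : Fin (n + 1), V.valuation (d s) ^ (m - 1) * V.valuation (d s.rev) ≤ 1 := fun s => by
    obtain ⟨β, j, hβ, hj, hne⟩ := exists_exponent (by omega) Gb hhom hsm s
    have hu : IsUnit (coeff (β + Finsupp.single j 1) G) := by
      by_contra h0
      apply hne
      rw [coeff_map]
      show algebraMap κ Ω (IsLocalRing.residue V _) = 0
      rw [(IsLocalRing.residue_eq_zero_iff _).mpr ((IsLocalRing.mem_maximalIdeal _).mpr h0), map_zero]
    have hdeg : β.degree + 1 = m := by
      by_contra h0
      exact hne (hhom.coeff_eq_zero (by rwa [map_add, Finsupp.degree_single]))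
    have h := (V.valuation_le_one_iff _).mpr (hD (β + Finsupp.single j 1))
    rw [map_mul, hvu _ hu, one_mul, map_prod] at h
    refine le_trans ?_ h
    have hsplit : ∏ i, V.valuation (d i ^ (β + Finsupp.single j 1 : Fin (n + 1) →₀ ℕ) i) =
        (∏ i, V.valuation (d i) ^ β i) * V.valuation (d j) := by
      simp only [map_mul, map_pow, Finsupp.add_apply, pow_add, Finset.prod_mul_distrib]
      congr 1
      rw [Finset.prod_eq_single j (fun i _ hi => by rw [Finsupp.single_eq_of_ne hi, pow_zero]) (fun h => absurd (Finset.mem_univ j) h),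
        Finsupp.single_eq_same, pow_one]
    rw [hsplit]
    refine mul_le_mul' ?_ (hanti _ _ hj)
    rw [show m - 1 = ∑ i, β i by rw [← hdeg, Finsupp.degree_eq_sum]; simp, ← Finset.prod_pow_eq_pow_sum]
    refine Finset.prod_le_prod' fun i _ => ?_
    by_cases hb : β i = 0
    · simp [hb]
    · exact pow_le_pow_left' (hanti _ _ (hβ i hb)) _
  have heq : ∀ s : Fin (n + 1), V.valuation (d s) ^ (m - 1) * V.valuation (d s.rev) = 1 := fun s => by
    refine le_antisymm (he s) ?_
    have h1 : ∏ i, V.valuation (d i) ^ (m - 1) * V.valuation (d i.rev) = 1 := by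
      have hrev : ∏ i : Fin (n + 1), V.valuation (d i.rev) = 1 :=
        (Equiv.prod_comp Fin.revPerm fun i => V.valuation (d i)).trans hprod
      rw [Finset.prod_mul_distrib, Finset.prod_pow, hprod, hrev, one_pow, mul_one]
    rw [← h1, ← Finset.mul_prod_erase _ _ (Finset.mem_univ s)]
    exact mul_le_of_le_one_right' (Finset.prod_le_one' fun i _ => he i)
  have hone : ∀ s, V.valuation (d s) = 1 := fun s => by
    have a1 := heq s
    have a2 := heq s.rev
    rw [Fin.rev_rev] at a2
    set a := V.valuation (d s)
    set b := V.valuation (d s.rev)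
    have hlt : ∀ x y : ValuationSubring.ValueGroup V, x ^ (m - 1) * y = 1 → y ^ (m - 1) * x = 1 → ¬ x < 1 := by
      intro x y h1 h2 hx
      have hy : 1 < y := by
        by_contra hy
        rw [not_lt] at hy
        exact absurd h2 (ne_of_lt (lt_of_le_of_lt (mul_le_of_le_one_left' (pow_le_one' hy _)) hx))
      have h3 : (x * y) ^ m = 1 := by
        calc (x * y) ^ m = (x ^ (m - 1) * y) * (y ^ (m - 1) * x) := by
              obtain ⟨m', rfl⟩ : ∃ m', m = m' + 1 := ⟨m - 1, by omega⟩
              simp [pow_succ, mul_pow]; ac_rfl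
          _ = 1 := by rw [h1, h2, one_mul]
      have h4 : x * y = 1 := (pow_left_inj₀ zero_le zero_le_one (by omega : m ≠ 0)).mp (h3.trans (one_pow m).symm)
      have h5 : x ^ (m - 2) = 1 := by
        calc x ^ (m - 2) = x ^ (m - 2) * (x * y) := by rw [h4, mul_one]
          _ = x ^ (m - 1) * y := by rw [← mul_assoc, ← pow_succ, show m - 2 + 1 = m - 1 by omega]
          _ = 1 := h1
      exact absurd h5 (ne_of_lt (pow_lt_one' hx (by omega)))
    rcases lt_trichotomy a 1 with h | h | h
    · exact absurd h (hlt a b a1 a2)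
    · exact h
    · have hb : b < 1 := by
        by_contra hb
        rw [not_lt] at hb
        exact absurd a1 (ne_of_gt (lt_of_lt_of_le (one_lt_pow' h (by omega)) (le_mul_of_one_le_right' hb)))
      exact absurd hb (hlt b a a2 a1)
  intro i j
  let d' : Fin (n + 1) → V := fun i => ⟨d i, (V.valuation_le_one_iff _).mp (hone i).le⟩
  have : g = (p * Matrix.diagonal d' * q).map V.subtype := by
    rw [Matrix.map_mul, Matrix.map_mul, Matrix.diagonal_map (map_zero _)]
    exact hgd
  rw [this]
  exact ((p * Matrix.diagonal d' * q) i j).2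

end Groth.Agent.SmoothFormLib
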